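import Cfsg.Agent.Lib.Fusion.UniTri
import Cfsg.Agent.Lib.Fusion.PSLnSimple
import Mathlib

/-!
The Sylow subgroup of `SL₃` in defining characteristic: centre, lines and exponents.
-/

set_option autoImplicit false
set_option linter.unusedSectionVars false

namespace CfsgLib.Fusion.SLThree

/-- The facts used about the Sylow subgroup. -/
structure Frame (p q : ℕ) (T : Type*) [Group T] : Prop where
  one_lt : 1 < q
  card_eq : Nat.card T = q ^ 3
  card_center : Nat.card (Subgroup.center T) = q
  center_pow : ∀ z ∈ Subgroup.center T, z ^ p = 1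
  comm_mem : ∀ x y : T, x * y * x⁻¹ * y⁻¹ ∈ Subgroup.center T
  card_line : ∀ x ∉ Subgroup.center T, Nat.card (Subgroup.centralizer ({x} : Set T)) = q ^ 2
  line_comm : ∀ x ∉ Subgroup.center T, ∀ y ∈ Subgroup.centralizer ({x} : Set T),
    ∀ z ∈ Subgroup.centralizer ({x} : Set T), y * z = z * y
  dich : ∀ x ∉ Subgroup.center T, (∀ y ∈ Subgroup.centralizer ({x} : Set T), y ^ p = 1) ∨
    ∀ y ∈ Subgroup.centralizer ({x} : Set T), y ^ p = 1 → y ∈ Subgroup.center T

theorem mem_centralizer_one {T : Type*} [Group T] {x y : T} :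
    y ∈ Subgroup.centralizer ({x} : Set T) ↔ x * y = y * x := by
  simp [Subgroup.mem_centralizer_iff]

theorem Frame.of_equiv {p q : ℕ} {T T' : Type*} [Group T] [Group T'] (h : Frame p q T)
    (e : T' ≃* T) : Frame p q T' := by
  have hc : ∀ x : T', x ∈ Subgroup.center T' ↔ e x ∈ Subgroup.center T := fun x => by
    simp only [Subgroup.mem_center_iff]
    exact ⟨fun hx y => by
      obtain ⟨z, rfl⟩ := e.surjective y
      rw [← map_mul, ← map_mul, hx z],
      fun hx y => e.injective (by rw [map_mul, map_mul, hx (e y)])⟩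
  have hC : ∀ x y : T', y ∈ Subgroup.centralizer ({x} : Set T') ↔
      e y ∈ Subgroup.centralizer ({e x} : Set T) := fun x y => by
    rw [mem_centralizer_one, mem_centralizer_one, ← map_mul, ← map_mul, e.injective.eq_iff]
  refine ⟨h.one_lt, (Nat.card_congr e.toEquiv).trans h.card_eq, ?_, fun z hz => ?_, fun x y => ?_,
    fun x hx => ?_, fun x hx y hy z hz => ?_, fun x hx => ?_⟩
  · exact (Nat.card_congr (e.toEquiv.subtypeEquiv hc)).trans h.card_center
  · exact e.injective (by rw [map_pow, map_one]; exact h.center_pow _ ((hc z).1 hz))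
  · rw [hc]; simpa using h.comm_mem (e x) (e y)
  · exact (Nat.card_congr (e.toEquiv.subtypeEquiv (hC x))).trans (h.card_line _ fun h' => hx ((hc x).2 h'))
  · exact e.injective (by
      rw [map_mul, map_mul]
      exact h.line_comm _ (fun h' => hx ((hc x).2 h')) _ ((hC x y).1 hy) _ ((hC x z).1 hz))
  · refine (h.dich _ fun h' => hx ((hc x).2 h')).imp (fun h1 y hy => ?_) fun h1 y hy hyp => ?_
    · exact e.injective (by rw [map_pow, map_one]; exact h1 _ ((hC x y).1 hy))
    · exact (hc y).2 (h1 _ ((hC x y).1 hy) (by rw [← map_pow, hyp, map_one]))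

variable {p q : ℕ} {T : Type*} [Group T]

theorem Frame.line_eq [Finite T] (h : Frame p q T) {x y : T} (hx : x ∉ Subgroup.center T)
    (hy : y ∈ Subgroup.centralizer ({x} : Set T)) (hy' : y ∉ Subgroup.center T) :
    Subgroup.centralizer ({y} : Set T) = Subgroup.centralizer ({x} : Set T) := by
  symm
  refine Subgroup.eq_of_le_of_card_ge (fun z hz => ?_) (by rw [h.card_line x hx, h.card_line y hy'])
  exact mem_centralizer_one.2 (h.line_comm x hx y hy z hz)

section Upper

open UniTri Matrix

variable (K : Type*) [Field K] [Fintype K]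

/-- The three coordinates. -/
def mk3 (a b c : K) : upper K 3 :=
  ⟨⟨!![1, a, c; 0, 1, b; 0, 0, 1], by simp [Matrix.det_fin_three]⟩,
    mem_upper.2 ⟨fun x y h => by fin_cases x <;> fin_cases y <;> simp at h ⊢,
      fun x => by fin_cases x <;> simp⟩⟩

variable {K}

/-- First coordinate. -/
def cA (g : upper K 3) : K := g.1.1 0 1
/-- Second coordinate. -/
def cB (g : upper K 3) : K := g.1.1 1 2
/-- Central coordinate. -/
def cC (g : upper K 3) : K := g.1.1 0 2

theorem ext3 {g h : upper K 3} (h1 : cA g = cA h) (h2 : cB g = cB h) (h3 : cC g = cC h) : g = h := by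
  have hg := mem_upper.1 g.2
  have hh := mem_upper.1 h.2
  refine Subtype.ext (Subtype.ext (Matrix.ext_iff.1 fun x y => ?_))
  fin_cases x <;> fin_cases y <;>
    first
      | exact h1
      | exact h2
      | exact h3
      | exact (hg.2 _).trans (hh.2 _).symm
      | exact (hg.1 _ _ (by decide)).trans (hh.1 _ _ (by decide)).symm

theorem val_eq (g : upper K 3) : g.1.1 = !![1, cA g, cC g; 0, 1, cB g; 0, 0, 1] := by
  have hg := mem_upper.1 g.2
  ext x y
  fin_cases x <;> fin_cases y <;>
    first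
      | exact hg.2 _
      | exact hg.1 _ _ (by decide)
      | rfl

theorem coords_mul (g h : upper K 3) :
    cA (g * h) = cA g + cA h ∧ cB (g * h) = cB g + cB h ∧
      cC (g * h) = cC g + cC h + cA g * cB h := by
  have e : (g * h).1.1 = g.1.1 * h.1.1 := rfl
  refine ⟨?_, ?_, ?_⟩
  all_goals
    show (g * h).1.1 _ _ = _
    rw [e, val_eq g, val_eq h, Matrix.mul_apply, Fin.sum_univ_three]
    simp [cA, cB, cC]
    try ring

theorem coords_one : cA (1 : upper K 3) = 0 ∧ cB (1 : upper K 3) = 0 ∧ cC (1 : upper K 3) = 0 :=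
  ⟨rfl, rfl, rfl⟩

theorem commute_iff (g h : upper K 3) : g * h = h * g ↔ cA g * cB h = cA h * cB g := by
  obtain ⟨a1, b1, c1⟩ := coords_mul g h
  obtain ⟨a2, b2, c2⟩ := coords_mul h g
  constructor
  · intro e
    have := congrArg cC e
    rw [c1, c2] at this
    linear_combination this
  · intro e
    exact ext3 (by rw [a1, a2, add_comm]) (by rw [b1, b2, add_comm])
      (by rw [c1, c2]; linear_combination e)

theorem coords_pow (g : upper K 3) : ∀ k : ℕ,
    cA (g ^ k) = k * cA g ∧ cB (g ^ k) = k * cB g ∧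
      cC (g ^ k) = k * cC g + (k.choose 2 : ℕ) * (cA g * cB g)
  | 0 => by simp [coords_one.1, coords_one.2.1, coords_one.2.2]
  | k + 1 => by
    obtain ⟨ha, hb, hc⟩ := coords_pow g k
    obtain ⟨a1, b1, c1⟩ := coords_mul (g ^ k) g
    rw [pow_succ]
    refine ⟨by rw [a1, ha]; push_cast; ring, by rw [b1, hb]; push_cast; ring, ?_⟩
    rw [c1, hc, ha, Nat.choose_succ_succ k 1, Nat.choose_one_right]
    push_cast
    ring

theorem mem_center_iff' (g : upper K 3) :
    g ∈ Subgroup.center (upper K 3) ↔ cA g = 0 ∧ cB g = 0 := by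
  rw [Subgroup.mem_center_iff]
  refine ⟨fun h => ?_, fun ⟨ha, hb⟩ y => (commute_iff y g).2 (by rw [ha, hb, mul_zero, zero_mul])⟩
  have h1 := (commute_iff (mk3 K 1 0 0) g).1 (h _)
  have h2 := (commute_iff (mk3 K 0 1 0) g).1 (h _)
  simp [cA, cB, mk3] at h1 h2
  exact ⟨h2.symm, h1⟩

theorem frame_upper {p : ℕ} [Fact p.Prime] [CharP K p] :
    Frame p (Fintype.card K) (upper K 3) := by
  classical
  have hcast : ((p : ℕ) : K) = 0 := CharP.cast_eq_zero K p
  have hcard : Nat.card (upper K 3) = Fintype.card K ^ 3 := by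
    let e : upper K 3 ≃ K × K × K :=
      { toFun := fun g => (cA g, cB g, cC g)
        invFun := fun v => mk3 K v.1 v.2.1 v.2.2
        left_inv := fun g => ext3 rfl rfl rfl
        right_inv := fun v => rfl }
    rw [Nat.card_congr e, Nat.card_prod, Nat.card_prod, Nat.card_eq_fintype_card]
    ring
  have hzpow : ∀ z : upper K 3, cA z = 0 → z ^ p = 1 := by
    intro z ha
    obtain ⟨a, b, c⟩ := coords_pow z p
    exact ext3 (by rw [a, hcast, zero_mul]; rfl) (by rw [b, hcast, zero_mul]; rfl)
      (by rw [c, hcast, ha]; simp [coords_one.2.2])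
  have hline : ∀ x : upper K 3, x ∉ Subgroup.center (upper K 3) → ∀ y : upper K 3,
      y ∈ Subgroup.centralizer ({x} : Set (upper K 3)) → ∃ t : K, cA y = t * cA x ∧ cB y = t * cB x := by
    intro x hx y hy
    have e := (commute_iff x y).1 (mem_centralizer_one.1 hy)
    by_cases ha : cA x = 0
    · have hb : cB x ≠ 0 := fun hb => hx ((mem_center_iff' x).2 ⟨ha, hb⟩)
      refine ⟨cB y / cB x, ?_, by rw [div_mul_cancel₀ _ hb]⟩
      rw [ha, zero_mul] at e
      rw [(mul_eq_zero.1 e.symm).resolve_right hb, ha, mul_zero]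
    · refine ⟨cA y / cA x, by rw [div_mul_cancel₀ _ ha], ?_⟩
      rw [div_mul_eq_mul_div, eq_div_iff ha, mul_comm, e]
  refine ⟨Fintype.one_lt_card, hcard, ?_, fun z hz => hzpow z ((mem_center_iff' z).1 hz).1,
    fun x y => ?_, fun x hx => ?_, fun x hx y hy z hz => ?_, fun x hx => ?_⟩
  · let e : Subgroup.center (upper K 3) ≃ K :=
      { toFun := fun g => cC g.1
        invFun := fun c => ⟨mk3 K 0 0 c, (mem_center_iff' _).2 ⟨rfl, rfl⟩⟩
        left_inv := fun g => Subtype.ext (ext3 ((mem_center_iff' _).1 g.2).1.symm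
          ((mem_center_iff' _).1 g.2).2.symm rfl)
        right_inv := fun c => rfl }
    rw [Nat.card_congr e, Nat.card_eq_fintype_card]
  · have hi : ∀ g : upper K 3, cA g⁻¹ = -cA g ∧ cB g⁻¹ = -cB g := fun g => by
      obtain ⟨a, b, -⟩ := coords_mul g g⁻¹
      rw [mul_inv_cancel] at a b
      rw [coords_one.1] at a
      rw [coords_one.2.1] at b
      exact ⟨by linear_combination -a, by linear_combination -b⟩
    rw [mem_center_iff']
    simp only [(coords_mul _ _).1, (coords_mul _ _).2.1, (hi _).1, (hi _).2]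
    constructor <;> ring
  · let e : Subgroup.centralizer ({x} : Set (upper K 3)) ≃ K × K :=
      Equiv.symm <| Equiv.ofBijective (fun v => ⟨mk3 K (v.1 * cA x) (v.1 * cB x) v.2,
        mem_centralizer_one.2 ((commute_iff _ _).2 (by simp [cA, cB, mk3]; ring))⟩) ⟨?_, ?_⟩
    · rw [Nat.card_congr e, Nat.card_prod, Nat.card_eq_fintype_card, sq]
    · intro v w h
      have h' := congrArg Subtype.val h
      refine Prod.ext ?_ (congrArg cC h')
      have h1 : v.1 * cA x = w.1 * cA x := congrArg cA h'
      have h2 : v.1 * cB x = w.1 * cB x := congrArg cB h'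
      by_cases ha : cA x = 0
      · exact mul_right_cancel₀ (fun hb => hx ((mem_center_iff' x).2 ⟨ha, hb⟩)) h2
      · exact mul_right_cancel₀ ha h1
    · rintro ⟨y, hy⟩
      obtain ⟨t, h1, h2⟩ := hline x hx y hy
      exact ⟨(t, cC y), Subtype.ext (ext3 h1.symm h2.symm rfl)⟩
  · obtain ⟨t, h1, h2⟩ := hline x hx y hy
    obtain ⟨u, h3, h4⟩ := hline x hx z hz
    rw [commute_iff, h1, h2, h3, h4]
    ring
  · rcases (Fact.out : p.Prime).eq_two_or_odd' with hp2 | hodd
    · subst hp2
      by_cases hab : cA x * cB x = 0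
      · left
        intro y hy
        obtain ⟨t, h1, h2⟩ := hline x hx y hy
        obtain ⟨a, b, c⟩ := coords_pow y 2
        refine ext3 (by rw [a, hcast, zero_mul]; rfl) (by rw [b, hcast, zero_mul]; rfl) ?_
        rw [c, hcast, h1, h2, coords_one.2.2]
        linear_combination (t * t * ((Nat.choose 2 2 : ℕ) : K)) * hab
      · right
        intro y hy hyp
        obtain ⟨t, h1, h2⟩ := hline x hx y hy
        have h := congrArg cC hyp
        rw [(coords_pow y 2).2.2, hcast, coords_one.2.2, h1, h2, Nat.choose_self] at h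
        have h' : (t * t) * (cA x * cB x) = 0 := by push_cast at h; linear_combination h
        have ht : t = 0 := mul_self_eq_zero.1 ((mul_eq_zero.1 h').resolve_right hab)
        exact (mem_center_iff' y).2 ⟨by rw [h1, ht, zero_mul], by rw [h2, ht, zero_mul]⟩
    · left
      intro y _
      obtain ⟨a, b, c⟩ := coords_pow y p
      have hch : ((p.choose 2 : ℕ) : K) = 0 := by
        refine (CharP.cast_eq_zero_iff K p _).2 ((Fact.out : p.Prime).dvd_choose_self two_ne_zero ?_)
        rcases (Fact.out : p.Prime).two_le.lt_or_eq with h | h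
        · exact h
        · exact absurd (h ▸ hodd) (by decide)
      exact ext3 (by rw [a, hcast, zero_mul]; rfl) (by rw [b, hcast, zero_mul]; rfl)
        (by rw [c, hcast, hch]; simp [coords_one.2.2])

/-- The unitriangular subgroup is a Sylow subgroup. -/
theorem nonempty_equiv_upper (p : ℕ) [Fact p.Prime] [CharP K p]
    (P : Sylow p (Matrix.SpecialLinearGroup (Fin 3) K)) :
    Nonempty (↥(P : Subgroup (Matrix.SpecialLinearGroup (Fin 3) K)) ≃* upper K 3) := by
  classical
  have hUp : IsPGroup p (upper K 3) := fun u => ⟨3, Subtype.ext (by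
    rw [Subgroup.coe_pow]; exact IsUni.pow_eq_one (mem_upper.1 u.2))⟩
  obtain ⟨Q, hQ⟩ := hUp.exists_le_sylow
  have hQe : upper K 3 = (Q : Subgroup (Matrix.SpecialLinearGroup (Fin 3) K)) := by
    by_contra hne
    obtain ⟨g, ⟨hgQ, hgn⟩, hgU⟩ := SetLike.exists_of_lt (lt_normalizerIn Q.2 (lt_of_le_of_ne hQ hne))
    have htri := triangular_of_normalizer p (QuotientGroup.mk' (Subgroup.center _))
      (QuotientGroup.ker_mk' _) (g := g)
      (Subgroup.le_normalizer_map _ ⟨_, hgn, rfl⟩)
    obtain ⟨D, hD, u, hu, hDu⟩ := exists_unipotent_mul htri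
    refine hgU ?_
    have hDQ : D ∈ (Q : Subgroup (Matrix.SpecialLinearGroup (Fin 3) K)) := by
      rw [show D = g * u⁻¹ by rw [hDu, mul_inv_cancel_right]]
      exact mul_mem hgQ (inv_mem (hQ hu))
    obtain ⟨k, hk⟩ := Q.2 ⟨D, hDQ⟩
    have hk' : D ^ p ^ k = 1 := congrArg Subtype.val hk
    have hD1 : D = 1 := by
      refine Subtype.ext ?_
      rw [hD, val_one, ← Matrix.diagonal_one]
      congr 1
      funext i
      refine eq_one_of_pow_char (p := p) (k := k) ?_
      have := congrArg (fun M : Matrix.SpecialLinearGroup (Fin 3) K => M.1 i i) hk'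
      simpa [val_pow, hD, Matrix.diagonal_pow] using this
    rw [hDu, hD1, one_mul]
    exact hu
  obtain ⟨g, hg⟩ := MulAction.exists_smul_eq (Matrix.SpecialLinearGroup (Fin 3) K) P Q
  rw [← hg, Sylow.coe_subgroup_smul] at hQe
  exact ⟨(Subgroup.equivMapOfInjective _ _ (MulAut.conj g).injective).trans
    (MulEquiv.subgroupCongr hQe.symm)⟩

end Upper

end CfsgLib.Fusion.SLThree
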