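import Cfsg.Agent.Lib.LocalEven.StrongFF.Main

/-!
A strongly embedded group with an offender Sylow subgroup on a module of order the square of it
fixes nothing with any normal subgroup containing that Sylow subgroup.
-/

set_option autoImplicit false

namespace CfsgLib.Fusion.SLThree

open CfsgLib.Fusion (conjSub mem_conjSub conj_mem_conjSub card_conjSub)
open CfsgLib.LocalEven.MinOffender (fx fx_anti mem_fx_conj card_fx_conj)
open CfsgLib.LocalEven (StrongFF.exists_min)

variable {Γ : Type*} [Group Γ] [Finite Γ] {M : Type*} [AddCommGroup M] [DistribMulAction Γ M] [Finite M]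

theorem fx_normal_eq_bot {p : ℕ} [Fact p.Prime] {Me : Subgroup Γ} (hMe : Cfsg.IsStronglyPEmbedded p Me)
    (hexp : ∀ m : M, p • m = 0) (hfaith : ∀ g : Γ, (∀ m : M, g • m = m) → g = 1)
    (X : Sylow p Γ) (hcomm : ∀ a ∈ (X : Subgroup Γ), ∀ b ∈ (X : Subgroup Γ), a * b = b * a)
    (hquad : ∀ {a b : Γ}, a ∈ (X : Subgroup Γ) → b ∈ (X : Subgroup Γ) → ∀ v : M,
      a • (b • v - v) = b • v - v)
    (hfx : Nat.card ↥(fx M (X : Subgroup Γ)) = Nat.card ↥(X : Subgroup Γ))
    (hM : Nat.card M = Nat.card ↥(X : Subgroup Γ) ^ 2)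
    (N : Subgroup Γ) [N.Normal] (hXN : (X : Subgroup Γ) ≤ N) : fx M N = ⊥ := by
  classical
  obtain ⟨P, hPne, hPMe, hPN⟩ := CfsgLib.LocalEven.IsStronglyPEmbedded.exists_sylow hMe
  obtain ⟨g, hg⟩ := MulAction.exists_smul_eq Γ X P
  have hPX : (P : Subgroup Γ) = conjSub g (X : Subgroup Γ) := by
    rw [← hg, Sylow.coe_subgroup_smul]; rfl
  have hcard : Nat.card ↥(P : Subgroup Γ) = Nat.card ↥(X : Subgroup Γ) := by rw [hPX, card_conjSub]
  have hback : ∀ {a : Γ}, a ∈ (P : Subgroup Γ) → g⁻¹ * a * g ∈ (X : Subgroup Γ) := fun ha =>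
    mem_conjSub.1 (hPX ▸ ha)
  have hs : CfsgLib.LocalEven.StrongFF.Setup p Me (P : Subgroup Γ) M := by
    refine CfsgLib.LocalEven.StrongFF.Setup.of_emb hexp hfaith hMe hPMe hPne P.2 (fun a ha b hb => ?_) ?_
      (fun {a b} ha hb v => ?_)
    · have h1 := hcomm _ (hback ha) _ (hback hb)
      have h2 : g⁻¹ * (a * b) * g = g⁻¹ * (b * a) * g := by
        calc g⁻¹ * (a * b) * g = (g⁻¹ * a * g) * (g⁻¹ * b * g) := by group
          _ = (g⁻¹ * b * g) * (g⁻¹ * a * g) := h1
          _ = _ := by group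
      exact mul_left_cancel (mul_right_cancel h2)
    · rw [hM, sq, hcard, hPX, card_fx_conj, hfx]
    · have h1 := hquad (hback ha) (hback hb) (g⁻¹ • v)
      simp only [← mul_smul, smul_sub] at h1
      have h2 := congrArg (fun m => g • m) h1
      simp only [← mul_smul, smul_sub] at h2
      simpa [mul_assoc, smul_sub, ← mul_smul] using h2
  have hPNle : (P : Subgroup Γ) ≤ N := by
    intro a ha
    have := Subgroup.Normal.conj_mem inferInstance _ (hXN (hback ha)) g
    simpa [mul_assoc] using this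
  have hNMe : ¬ N ≤ Me := by
    intro hle
    refine hMe.2.1 (eq_top_iff.2 ?_)
    have hF := Sylow.normalizer_sup_eq_top' P hPNle
    rw [← hF]
    exact sup_le (hPN _ le_rfl hPne) hle
  obtain ⟨L, hLN, hL⟩ := StrongFF.exists_min hPNle hNMe
  obtain ⟨-, F, iF, iFF, hF, ρ, ψ, -, hψs, hψk, -⟩ := (hs.core hL).main
  have hFq : Nat.card (Fin 2 → F) = Nat.card M := by
    rw [Nat.card_fun, Nat.card_eq_fintype_card (α := F), hF,
      Nat.card_congr (Subgroup.subgroupOfEquivOfLe hL.aLe).toEquiv, hcard, hM,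
      Nat.card_eq_fintype_card (α := Fin 2), Fintype.card_fin]
  have hψi : Function.Injective ψ := (Function.Surjective.bijective_of_nat_card_le hψs hFq.ge).1
  rw [eq_bot_iff]
  intro m hm
  have h1 : ψ m = 0 := (hψk m).2 (by
    rw [CfsgLib.LocalEven.StrongFF.fx_top_subgroup]
    exact fx_anti hLN hm)
  rw [AddSubgroup.mem_bot]
  exact hψi (h1.trans (map_zero ψ).symm)

end CfsgLib.Fusion.SLThree
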