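import Cfsg.Agent.Lib.Fusion.SLThree.Frame
import Cfsg.Agent.Lib.Fusion.SLThree.StrongFix
import Cfsg.Agent.Lib.Fusion.Normal
import Cfsg.Agent.Lib.Fusion.NormSys
import Cfsg.Agent.Lib.Fusion.SmallEssential
import Cfsg.Agent.Lib.Fusion.ModelExists

/-!
A saturated system with nontrivial core over a Sylow subgroup of `SL₃` is constrained.
-/

set_option autoImplicit false
set_option linter.unusedSectionVars false
set_option linter.style.haveILetI false

namespace CfsgLib.Fusion.SLThree

open Cfsg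
open CfsgLib.LocalEven.MinOffender (fx)

universe u

variable {Ω : Type u} [Group Ω] {S : Subgroup Ω} [Finite S] {p q : ℕ} [Fact p.Prime]
  {F : FusionSystem S}

/-- Strong embedding passes back along bijections. -/
theorem isStronglyPEmbedded_comap {G G' : Type*} [Group G] [Group G'] [Finite G] [Finite G']
    (f : G →* G') (hf : Function.Bijective f) {Y : Subgroup G'} (hY : IsStronglyPEmbedded p Y) :
    IsStronglyPEmbedded p (Y.comap f) := by
  obtain ⟨P, hPne, hPY, hPN⟩ := CfsgLib.LocalEven.IsStronglyPEmbedded.exists_sylow hY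
  let e := MulEquiv.ofBijective f hf
  have hcard : Nat.card G = Nat.card G' := Nat.card_congr e.toEquiv
  have hle : (P : Subgroup G') ≤ f.range := by rw [f.range_eq_top.2 hf.2]; exact le_top
  refine CfsgLib.LocalEven.isStronglyPEmbedded_of_centralizer_le (hcard ▸ hY.1) (fun h => hY.2.1 ?_)
    (P.comapOfInjective f hf.1 hle) ?_ ?_
  · rw [← Subgroup.map_comap_eq_self_of_surjective hf.2 Y, h, Subgroup.map_top_of_surjective f hf.2]
  · intro g hg
    refine hPN _ le_rfl hPne ?_
    rw [Sylow.coe_comapOfInjective, ← Subgroup.comap_normalizer_eq_of_surjective _ hf.2] at hg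
    exact hg
  · intro x hx hxp g hg
    refine CfsgLib.LocalEven.IsStronglyPEmbedded.centralizer_le hY (k := 1) hx
      (by rw [pow_one, ← hxp]; exact orderOf_injective f hf.1 x) (fun h => ?_) ?_
    · rw [← map_one f] at h
      rw [hf.1 h, orderOf_one] at hxp
      exact (Fact.out : p.Prime).one_lt.ne hxp
    · rw [mem_centralizer_one] at hg ⊢
      rw [← map_mul, ← map_mul, hg]

variable (hT : Frame p q ↥S)
include hT

/-- The centre of `S` inside the ambient group. -/
theorem mem_zed {x : Ω} (hx : x ∈ S) :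
    x ∈ (Subgroup.center ↥S).map S.subtype ↔ (⟨x, hx⟩ : ↥S) ∈ Subgroup.center ↥S := by
  constructor
  · rintro ⟨y, hy, rfl⟩; exact hy
  · exact fun h => ⟨_, h, rfl⟩

/-- An essential subgroup has no invariant middle term at the centre. -/
theorem false_of_center_invariant (hS : IsPGroup p S) (hF : F.IsSaturated p) {E : Subgroup Ω}
    (hE : F.IsEssential p E)
    (h : ∀ α ∈ F.autGroup E, ∀ x : E, (⟨x, hE.1.1 x.2⟩ : ↥S) ∈ Subgroup.center ↥S →
      (⟨(α x : E), hE.1.1 (α x).2⟩ : ↥S) ∈ Subgroup.center ↥S) : False := by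
  have hES := hE.1.1
  obtain ⟨s, hsA, hsI⟩ := exists_outer_of_isEssential hS hF hE
  obtain ⟨g, hg, hge⟩ := mem_autInducedBy_iff.1 hsA
  let C : Subgroup E := (Subgroup.center ↥S).comap (Subgroup.inclusion hES)
  refine hsI (mem_inn_of_stabilizes hS hE (fun i => if i = 0 then ⊥ else if i = 1 then C else ⊤) 2
    (if_pos rfl) rfl ?_ (autInducedBy_le_autGroup hES hsA) ?_)
  · intro α hα i _ x hx
    rcases i with _ | _ | i
    · simp only [↓reduceIte, Subgroup.mem_bot] at hx ⊢
      rw [hx, map_one]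
    · simp only [Nat.one_ne_zero, ↓reduceIte, zero_add] at hx ⊢
      exact h α hα x hx
    · exact Subgroup.mem_top _
  · intro i hi x hx
    rcases i with _ | _ | i
    · simp only [Nat.one_ne_zero, ↓reduceIte, zero_add] at hx ⊢
      rw [Subgroup.mem_bot, inv_mul_eq_one]
      refine Subtype.ext ?_
      rw [hge]
      have h1 := congrArg Subtype.val (Subgroup.mem_center_iff.1 hx ⟨g, hg⟩)
      simp only [Subgroup.coe_mul, Subgroup.coe_inclusion] at h1
      rw [h1, mul_inv_cancel_right]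
    · simp only [Nat.one_ne_zero, ↓reduceIte, zero_add] at hx ⊢
      show Subgroup.inclusion hES (x⁻¹ * s x) ∈ Subgroup.center ↥S
      have e : Subgroup.inclusion hES (x⁻¹ * s x) = (⟨x, hES x.2⟩ : ↥S)⁻¹ * ⟨g, hg⟩ *
          (⟨x, hES x.2⟩ : ↥S)⁻¹⁻¹ * (⟨g, hg⟩ : ↥S)⁻¹ := by
        refine Subtype.ext ?_
        simp only [Subgroup.coe_inclusion, Subgroup.coe_mul, Subgroup.coe_inv, hge]
        group
      rw [e]
      exact hT.comm_mem _ _
    · omega

/-- An essential subgroup is an elementary abelian line. -/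
theorem essential_shape (hS : IsPGroup p S) (hF : F.IsSaturated p) {E : Subgroup Ω}
    (hE : F.IsEssential p E) : ∃ x : ↥S, x ∉ Subgroup.center ↥S ∧
      E.subgroupOf S = Subgroup.centralizer ({x} : Set ↥S) ∧
      ∀ y ∈ Subgroup.centralizer ({x} : Set ↥S), y ^ p = 1 := by
  have hES := hE.1.1
  set E0 := E.subgroupOf S with hE0
  have hcen : ∀ c : ↥S, (∀ y ∈ E0, y * c = c * y) → c ∈ E0 := by
    intro c hc
    refine hE.1.2 E (isConj_refl hES) ⟨c.2, Subgroup.mem_centralizer_iff.2 fun y hy => ?_⟩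
    exact congrArg Subtype.val (hc ⟨y, hES hy⟩ hy)
  have hZ : Subgroup.center ↥S ≤ E0 := fun c hc => hcen c fun y _ => Subgroup.mem_center_iff.1 hc y
  obtain ⟨x, hxE, hxZ⟩ : ∃ x ∈ E0, x ∉ Subgroup.center ↥S := by
    by_contra hcon
    push Not at hcon
    have htop : (⊤ : Subgroup ↥S) ≤ Subgroup.center ↥S := fun c _ =>
      hcon c (hcen c fun y hy => (Subgroup.mem_center_iff.1 (hcon y hy) c).symm)
    have h1 := Subgroup.card_le_of_le htop
    rw [Subgroup.card_top, hT.card_eq, hT.card_center] at h1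
    nlinarith [hT.one_lt, Nat.mul_lt_mul_of_pos_left hT.one_lt (show 0 < q by have := hT.one_lt; omega)]
  refine ⟨x, hxZ, ?_⟩
  by_cases hab : ∀ a ∈ E0, ∀ b ∈ E0, a * b = b * a
  · have heq : E0 = Subgroup.centralizer ({x} : Set ↥S) := by
      have h1 : E0 ≤ Subgroup.centralizer ({x} : Set ↥S) := fun y hy =>
        mem_centralizer_one.2 (hab x hxE y hy)
      exact le_antisymm h1 fun c hc => hcen c fun y hy => hT.line_comm x hxZ y (h1 hy) c hc
    refine ⟨heq, ?_⟩
    rcases hT.dich x hxZ with h1 | h1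
    · exact h1
    · exfalso
      refine false_of_center_invariant hT hS hF hE fun α hα y hy => h1 _ (heq ▸ (α y).2) ?_
      refine Subtype.ext ?_
      have h2 : y ^ p = 1 := Subtype.ext (congrArg Subtype.val (hT.center_pow _ hy) :)
      have h3 := congrArg (fun z : E => (z : Ω)) (congrArg α h2)
      simpa using h3
  · exfalso
    have hchar : ∀ y : E, (⟨y, hES y.2⟩ : ↥S) ∈ Subgroup.center ↥S ↔ ∀ z : E, z * y = y * z := by
      intro y
      refine ⟨fun hy z => Subtype.ext (congrArg Subtype.val (Subgroup.mem_center_iff.1 hy ⟨z, hES z.2⟩) :),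
        fun hy => ?_⟩
      by_contra hyZ
      refine hab fun a ha b hb => hT.line_comm _ hyZ a ?_ b ?_ <;> rw [mem_centralizer_one]
      · exact Subtype.ext (congrArg Subtype.val (hy ⟨a, ha⟩).symm :)
      · exact Subtype.ext (congrArg Subtype.val (hy ⟨b, hb⟩).symm :)
    refine false_of_center_invariant hT hS hF hE fun α hα y hy => (hchar _).2 fun z => ?_
    obtain ⟨z', rfl⟩ := α.surjective z
    rw [← map_mul, ← map_mul, (hchar y).1 hy z']

/-- The core is not central as soon as some subgroup is essential. -/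
theorem exists_core_not_central (hS : IsPGroup p S) (hF : F.IsSaturated p) {Q : Subgroup Ω}
    (hQ : F.IsNormal Q) (hQ1 : Q ≠ ⊥) {E : Subgroup Ω} (hE : F.IsEssential p E) :
    ∃ x : ↥S, (x : Ω) ∈ Q ∧ x ∉ Subgroup.center ↥S := by
  classical
  by_contra hcon
  push Not at hcon
  obtain ⟨x, hxZ, hEx, hpow⟩ := essential_shape hT hS hF hE
  have hES := hE.1.1
  have := finite_of_le hES
  have hQE : Q ≤ E := le_of_isNormal hS hQ hE.1 (isRadical_of_isEssential hS hE)
  have hcomm : ∀ a b : E, a * b = b * a := fun a b => Subtype.ext (congrArg Subtype.val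
    (hT.line_comm x hxZ ⟨a, hES a.2⟩ (hEx ▸ a.2) ⟨b, hES b.2⟩ (hEx ▸ b.2)) :)
  have hexp : ∀ a : E, a ^ p = 1 := fun a =>
    Subtype.ext (congrArg Subtype.val (hpow ⟨a, hES a.2⟩ (hEx ▸ a.2)) :)
  have hInn : (Cfsg.Inn E).subgroupOf (F.autGroup E) = ⊥ := by
    rw [eq_bot_iff]
    rintro ⟨α, hα⟩ ⟨c, rfl⟩
    refine Subgroup.mem_bot.2 (Subtype.ext (MulEquiv.ext fun a => ?_))
    show c * a * c⁻¹ = a
    rw [hcomm c a, mul_inv_cancel_right]
  obtain ⟨hc, hfn, hN, Y, hY⟩ := hE
  have hfπ : Function.Bijective (QuotientGroup.mk' ((Cfsg.Inn E).subgroupOf (F.autGroup E))) :=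
    ⟨(MonoidHom.ker_eq_bot_iff _).1 (by rw [QuotientGroup.ker_mk', hInn]), QuotientGroup.mk'_surjective _⟩
  have hMe := isStronglyPEmbedded_comap _ hfπ hY
  obtain ⟨⟨-, R, hR⟩, -⟩ := fullyAutomized_receptive_of_fullyNormalized hS hF hfn
  letI : CommGroup E := { (inferInstance : Group E) with mul_comm := hcomm }
  letI : DistribMulAction ↥(F.autGroup E) (Additive E) :=
    { smul := fun α v => Additive.ofMul ((α : MulAut E) (Additive.toMul v))
      one_smul := fun v => rfl
      mul_smul := fun α β v => rfl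
      smul_zero := fun α => congrArg Additive.ofMul (map_one (α : MulAut E))
      smul_add := fun α a b => congrArg Additive.ofMul (map_mul (α : MulAut E) (Additive.toMul a) (Additive.toMul b)) }
  -- conjugation by `S` on `E`
  have hSn : ∀ g : ↥S, (g : Ω) ∈ Subgroup.normalizer (E : Set Ω) := fun g =>
    mem_normalizer_of_forall fun a ha => by
      have hZE : Subgroup.center ↥S ≤ E.subgroupOf S := by
        rw [hEx]; exact fun c hc => mem_centralizer_one.2 (Subgroup.mem_center_iff.1 hc x)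
      have h1 := mul_mem (hZE (hT.comm_mem g ⟨a, hES ha⟩)) (show (⟨a, hES ha⟩ : ↥S) ∈ E.subgroupOf S from ha)
      rw [inv_mul_cancel_right] at h1
      exact h1
  let φ : ↥S →* MulAut E :=
    { toFun := fun g => normAut (g : Ω) (hSn g)
      map_one' := by ext a; simp
      map_mul' := fun g h => by ext a; simp [mul_assoc] }
  have hφ : φ.range = autInducedBy S E := by
    ext α
    rw [mem_autInducedBy_iff]
    constructor
    · rintro ⟨g, rfl⟩
      exact ⟨g, g.2, fun a => by simp [φ]⟩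
    · rintro ⟨g, hg, hge⟩
      exact ⟨⟨g, hg⟩, MulEquiv.ext fun a => Subtype.ext (by simp [φ, hge])⟩
  have hφmem : ∀ g : ↥S, φ g ∈ F.autGroup E := fun g =>
    autInducedBy_le_autGroup hES (hφ ▸ ⟨g, rfl⟩)
  have hRmem : ∀ a : ↥(F.autGroup E), a ∈ (R : Subgroup ↥(F.autGroup E)) → ∃ g : ↥S, φ g = (a : MulAut E) := by
    intro a ha
    rw [hR, Subgroup.mem_subgroupOf, ← hφ] at ha
    exact ha
  have hφR : ∀ g : ↥S, (⟨φ g, hφmem g⟩ : ↥(F.autGroup E)) ∈ (R : Subgroup ↥(F.autGroup E)) := fun g => by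
    rw [hR, Subgroup.mem_subgroupOf, ← hφ]
    exact ⟨g, rfl⟩
  have hfixZ : ∀ (g : ↥S) (a : E), (⟨a, hES a.2⟩ : ↥S) ∈ Subgroup.center ↥S → φ g a = a := fun g a ha => by
    refine Subtype.ext ?_
    have h1 := congrArg Subtype.val (Subgroup.mem_center_iff.1 ha g)
    simp only [Subgroup.coe_mul] at h1
    simp [φ, h1]
  have hker : φ.ker = E.subgroupOf S := by
    ext g
    rw [MonoidHom.mem_ker, hEx]
    constructor
    · intro h
      have hxE : (x : Ω) ∈ E := by
        have : x ∈ E.subgroupOf S := hEx ▸ mem_centralizer_one.2 rfl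
        exact this
      have h1 := congrArg (fun β : MulAut E => ((β ⟨x, hxE⟩ : E) : Ω)) h
      simp [φ] at h1
      exact mem_centralizer_one.2 (Subtype.ext (mul_inv_eq_iff_eq_mul.1 h1).symm)
    · intro h
      refine MulEquiv.ext fun a => Subtype.ext ?_
      have h1 := congrArg Subtype.val (hT.line_comm x hxZ g h ⟨a, hES a.2⟩ (hEx ▸ a.2))
      simp only [Subgroup.coe_mul] at h1
      simp [φ, h1]
  have hcardE : Nat.card E = q ^ 2 := by
    rw [← Nat.card_congr (Subgroup.subgroupOfEquivOfLe hES).toEquiv, hEx, hT.card_line x hxZ]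
  have hcardR : Nat.card ↥(R : Subgroup ↥(F.autGroup E)) = q := by
    have h1 : Nat.card ↥(R : Subgroup ↥(F.autGroup E)) = Nat.card φ.range := by
      rw [hR, hφ]
      exact Nat.card_congr (Subgroup.subgroupOfEquivOfLe (autInducedBy_le_autGroup hES)).toEquiv
    have h2 := φ.ker.card_mul_index
    rw [Subgroup.index_ker, hker, hEx, hT.card_line x hxZ, hT.card_eq] at h2
    have h3 : q ^ 2 * Nat.card φ.range = q ^ 2 * q := by rw [h2]; ring
    exact h1.trans (Nat.eq_of_mul_eq_mul_left (pow_pos (by have := hT.one_lt; omega) 2) h3)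
  have hcardFx : Nat.card ↥(fx (Additive E) (R : Subgroup ↥(F.autGroup E))) = q := by
    refine Eq.trans (Nat.card_congr ?_) hT.card_center
    have hZE : ∀ c : ↥S, c ∈ Subgroup.center ↥S → (c : Ω) ∈ E := fun c hc => by
      have : c ∈ E.subgroupOf S := hEx ▸ mem_centralizer_one.2 (Subgroup.mem_center_iff.1 hc x)
      exact this
    refine
      { toFun := fun v => ⟨⟨((Additive.toMul (v : Additive E) : E) : Ω), hES (Additive.toMul (v : Additive E)).2⟩, ?_⟩
        invFun := fun c => ⟨Additive.ofMul ⟨((c : ↥S) : Ω), hZE c c.2⟩, ?_⟩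
        left_inv := fun v => rfl
        right_inv := fun c => rfl }
    · refine Subgroup.mem_center_iff.2 fun g => Subtype.ext ?_
      have h1 := congrArg (fun m : Additive E => ((Additive.toMul m : E) : Ω)) (v.2 _ (hφR g))
      change ((φ g (Additive.toMul (v : Additive E)) : E) : Ω) = _ at h1
      simp [φ] at h1
      exact mul_inv_eq_iff_eq_mul.1 h1
    · intro a ha
      obtain ⟨g, hg⟩ := hRmem a ha
      show Additive.ofMul ((a : MulAut E) _) = _
      rw [← hg]
      exact congrArg Additive.ofMul (hfixZ g _ c.2)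
  -- the elements fixing `Q` pointwise
  let N : Subgroup ↥(F.autGroup E) :=
    { carrier := {α | ∀ a : E, (a : Ω) ∈ Q → (α : MulAut E) a = a}
      one_mem' := fun a _ => rfl
      mul_mem' := fun {α β} hα hβ a ha => by
        rw [Subgroup.coe_mul, MulAut.mul_apply, hβ a ha, hα a ha]
      inv_mem' := fun {α} hα a ha => by
        have := congrArg (α : MulAut E).symm (hα a ha)
        rw [MulEquiv.symm_apply_apply] at this
        exact this.symm }
  have hNn : N.Normal := by
    refine ⟨fun α hα β a ha => ?_⟩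
    have h1 := hα ((β⁻¹ : ↥(F.autGroup E)).1 a) (autGroup_apply_mem (stronglyClosed_of_isNormal hQ) (β⁻¹).2 ha)
    rw [Subgroup.coe_mul, Subgroup.coe_mul, MulAut.mul_apply, MulAut.mul_apply, h1, ← MulAut.mul_apply,
      ← Subgroup.coe_mul, mul_inv_cancel]
    rfl
  have hRN : (R : Subgroup ↥(F.autGroup E)) ≤ N := fun a ha b hb => by
    obtain ⟨g, hg⟩ := hRmem a ha
    rw [← hg]
    exact hfixZ g b (hcon _ hb)
  have hRcomm : ∀ a ∈ (R : Subgroup ↥(F.autGroup E)), ∀ b ∈ (R : Subgroup ↥(F.autGroup E)), a * b = b * a := by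
    intro a ha b hb
    obtain ⟨g, hg⟩ := hRmem a ha
    obtain ⟨h, hh⟩ := hRmem b hb
    refine Subtype.ext (MulEquiv.ext fun v => ?_)
    rw [Subgroup.coe_mul, Subgroup.coe_mul, ← hg, ← hh, ← map_mul, ← map_mul,
      show g * h = (g * h * g⁻¹ * h⁻¹) * (h * g) by group, map_mul, MulAut.mul_apply]
    refine Subtype.ext ?_
    have h1 := congrArg Subtype.val
      (Subgroup.mem_center_iff.1 (hT.comm_mem g h) ⟨_, hES (φ (h * g) v).2⟩)
    simp only [Subgroup.coe_mul, Subgroup.coe_inv] at h1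
    simp only [φ, MonoidHom.coe_mk, OneHom.coe_mk, normAut_apply, Subgroup.coe_mul, Subgroup.coe_inv] at h1 ⊢
    exact (mul_inv_eq_iff_eq_mul.2 h1.symm)
  have hquad : ∀ {a b : ↥(F.autGroup E)}, a ∈ (R : Subgroup ↥(F.autGroup E)) →
      b ∈ (R : Subgroup ↥(F.autGroup E)) → ∀ v : Additive E, a • (b • v - v) = b • v - v := by
    intro a b ha hb v
    obtain ⟨g, hg⟩ := hRmem a ha
    obtain ⟨h, hh⟩ := hRmem b hb
    refine congrArg Additive.ofMul ?_
    show (a : MulAut E) ((b : MulAut E) (Additive.toMul v) / Additive.toMul v) =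
      (b : MulAut E) (Additive.toMul v) / Additive.toMul v
    rw [← hg, ← hh]
    refine hfixZ g _ ?_
    have e : (⟨((φ h (Additive.toMul v) / Additive.toMul v : E) : Ω),
        hES (φ h (Additive.toMul v) / Additive.toMul v).2⟩ : ↥S) =
        h * ⟨(Additive.toMul v : E), hES (Additive.toMul v).2⟩ * h⁻¹ *
          (⟨(Additive.toMul v : E), hES (Additive.toMul v).2⟩ : ↥S)⁻¹ :=
      Subtype.ext (by simp [φ, div_eq_mul_inv])
    rw [e]
    exact hT.comm_mem _ _
  have key := fx_normal_eq_bot hMe (fun v => ?_) (fun α hα => ?_) R hRcomm hquad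
    (hcardFx.trans hcardR.symm) (by rw [hcardR, ← hcardE]; exact Nat.card_congr Additive.toMul) N hRN
  · refine hQ1 (eq_bot_iff.2 fun a ha => ?_)
    have h1 : Additive.ofMul (⟨a, hQE ha⟩ : E) ∈ fx (Additive E) N := fun α hα =>
      congrArg Additive.ofMul (hα ⟨a, hQE ha⟩ ha)
    rw [key, AddSubgroup.mem_bot] at h1
    exact Subgroup.mem_bot.2 (congrArg (fun m : Additive E => ((Additive.toMul m : E) : Ω)) h1)
  · exact congrArg Additive.ofMul (hexp (Additive.toMul v))
  · exact Subtype.ext (MulEquiv.ext fun a => congrArg Additive.toMul (hα (Additive.ofMul a)))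

/-- A nontrivial core forces a normal centric subgroup. -/
theorem isConstrained_of_core_ne_bot (hS : IsPGroup p S) (hF : F.IsSaturated p) (hc : F.core ≠ ⊥) :
    F.IsConstrained p := by
  by_cases hex : ∃ E, F.IsEssential p E
  · obtain ⟨E, hE⟩ := hex
    have hQ := isNormal_core (F := F)
    obtain ⟨x, hxQ, hxZ⟩ := exists_core_not_central hT hS hF hQ hc hE
    have hline : ∀ E' : Subgroup Ω, F.IsEssential p E' → ∀ y : ↥S, (y : Ω) ∈ F.core →
        y ∉ Subgroup.center ↥S → E'.subgroupOf S = Subgroup.centralizer ({y} : Set ↥S) := by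
      intro E' hE' y hy hyZ
      obtain ⟨x', hx'Z, hx'E, -⟩ := essential_shape hT hS hF hE'
      have hyE : y ∈ E'.subgroupOf S := le_of_isNormal hS hQ hE'.1 (isRadical_of_isEssential hS hE') hy
      rw [hx'E, hT.line_eq hx'Z (hx'E ▸ hyE) hyZ]
    refine ⟨hF, E, isNormal_of_autGroup_invariant hS hF fun P hP => ?_, hE.1⟩
    rcases hP with rfl | hP
    · refine ⟨hE.1.1, fun α hα a ha => ?_⟩
      have hx' : (α x : Ω) ∈ F.core := autGroup_apply_mem (stronglyClosed_of_isNormal hQ) hα hxQ
      have hx'Z : α x ∉ Subgroup.center ↥P := fun h => hxZ (Subgroup.mem_center_iff.2 fun g => by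
        have h1 := Subgroup.mem_center_iff.1 h (α g)
        rw [← map_mul, ← map_mul] at h1
        exact α.injective h1)
      have h1 : α a ∈ Subgroup.centralizer ({α x} : Set ↥P) := by
        have h2 : a ∈ E.subgroupOf P := ha
        rw [hline E hE x hxQ hxZ, mem_centralizer_one] at h2
        rw [mem_centralizer_one, ← map_mul, ← map_mul, h2]
      rw [← hline E hE (α x) hx' hx'Z] at h1
      exact h1
    · have hPE : P = E := by
        have h := Subgroup.subgroupOf_inj.1 ((hline P hP x hxQ hxZ).trans (hline E hE x hxQ hxZ).symm)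
        rwa [inf_eq_left.2 hP.1.1, inf_eq_left.2 hE.1.1] at h
      subst hPE
      exact ⟨le_rfl, fun α hα a _ => (α a).2⟩
  · refine ⟨hF, S, isNormal_of_autGroup_invariant hS hF fun P hP => ?_, isCentricRadical_self hS hF⟩
    rcases hP with rfl | hP
    · exact ⟨le_rfl, fun α hα a _ => (α a).2⟩
    · exact absurd ⟨P, hP⟩ hex

theorem core_eq_bot (hS : IsPGroup p S) (hex : F.IsExotic p) : F.core = ⊥ := by
  by_contra hc
  obtain ⟨G, iG, ι, hG, hreal, hsyl, -⟩ := exists_model hS (isConstrained_of_core_ne_bot hT hS hex.1 hc)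
  exact hex.2 ⟨G, iG, hG, ι, hreal, hsyl⟩

end CfsgLib.Fusion.SLThree
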